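import Cfsg.Agent.TAB.C3B.Basic
import Cfsg.Agent.TAB.C3B.Rep
import Cfsg.Agent.H775.EPS.SuzNum
import Cfsg.Agent.H759.S8.SuzK
import Cfsg.Agent.DS.Sp.F24ATools

/-!
# S5755, the Monster: involutions in the model of `C(3B)` (helper71)

* `n2` : the solutions of `t ^ 2 = 1`;
* `ni` : the elements inverted by an automorphism that inverts the centre.
-/

set_option autoImplicit false
set_option maxRecDepth 100000
set_option linter.unusedSectionVars false

namespace Cfsg.Agent.SP.Mon.D2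

open Matrix Subgroup Cfsg Cfsg.Agent.H920.Sz12 Cfsg.Agent.TAB.C3B
open Cfsg.Spor (Suz)
open Cfsg.Agent.SuzThree.CentA (z0)
open Cfsg.Agent.KFacts.SuzLFour (e0)

theorem ncard_le_fib {α β : Type*} [Finite α] {S : Set α} {T : Set β} (hT : T.Finite) (f : α → β)
    (hf : ∀ a ∈ S, f a ∈ T) {c : ℕ} (hc : ∀ b ∈ T, {a | a ∈ S ∧ f a = b}.ncard ≤ c) : S.ncard ≤ c * T.ncard := by
  classical
  have hS := Set.toFinite S
  rw [Set.ncard_eq_toFinset_card S hS, Set.ncard_eq_toFinset_card T hT]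
  refine Finset.card_le_mul_card_image_of_maps_to (f := f) (fun a ha => ?_) c fun b hb => ?_
  · exact hT.mem_toFinset.2 (hf a (hS.mem_toFinset.1 ha))
  · refine le_trans (le_of_eq ?_) (hc b (hT.mem_toFinset.1 hb))
    rw [← Set.ncard_coe_finset]
    congr 1
    ext a
    simp

theorem sq_le {G : Type*} [Group G] [Finite G] {S : Set G}
    (H : ∀ a ∈ S, ∀ b ∈ S, ∀ c ∈ S, ∀ d ∈ S, a * b⁻¹ = c * d⁻¹ → b⁻¹ * a = d⁻¹ * c) :
    S.ncard * S.ncard ≤ Nat.card (ConjClasses G) * Nat.card G := by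
  classical
  have hex : ∀ x : G, ∃ c : G, ∀ a ∈ S, ∀ b ∈ S, a * b⁻¹ = x → Commute x (c * a⁻¹) := by
    intro x
    by_cases h : ∃ c ∈ S, ∃ d ∈ S, c * d⁻¹ = x
    · obtain ⟨c, hc, d, hd, h⟩ := h
      refine ⟨c, fun a ha b hb e => ?_⟩
      have h1 := H a ha b hb c hc d hd (e.trans h.symm)
      show x * (c * a⁻¹) = c * a⁻¹ * x
      calc x * (c * a⁻¹) = c * (d⁻¹ * c) * a⁻¹ := by rw [← h]; group
        _ = c * a⁻¹ * (a * b⁻¹) := by rw [← h1]; group
        _ = _ := by rw [e]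
    · exact ⟨1, fun a ha b hb e => absurd ⟨a, ha, b, hb, e⟩ h⟩
  choose τ hτ using hex
  rw [← card_comm_eq_card_conjClasses_mul_card, ← Nat.card_coe_set_eq, ← Nat.card_prod]
  refine Nat.card_le_card_of_injective (fun p : S × S =>
    ⟨((p.1 : G) * (p.2 : G)⁻¹, τ (p.1 * (p.2 : G)⁻¹) * (p.1 : G)⁻¹), hτ _ _ p.1.2 _ p.2.2 rfl⟩) fun p q e => ?_
  have h1 : (p.1 : G) * (p.2 : G)⁻¹ = q.1 * (q.2 : G)⁻¹ := congrArg (fun z => z.1.1) e
  have h2 : τ (p.1 * (p.2 : G)⁻¹) * (p.1 : G)⁻¹ = τ (q.1 * (q.2 : G)⁻¹) * (q.1 : G)⁻¹ := congrArg (fun z => z.1.2) e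
  rw [h1, mul_right_inj, _root_.inv_inj] at h2
  rw [h2, mul_right_inj, _root_.inv_inj] at h1
  exact Prod.ext (Subtype.ext h2) (Subtype.ext h1)

/-! ### eigenspaces -/

/-- the rows inverted by `A` -/
def Ng (A : M12) : Set V12 := {v | v ᵥ* A = -v}

theorem Ng_le (A : M12) : (Ng A).ncard ≤ 3 ^ 12 := by
  rw [← card_rows]
  exact Set.ncard_le_card _

theorem Ng_conj (A B : GL12) : (Ng ((B * A * B⁻¹ : GL12) : M12)).ncard ≤ (Ng (A : M12)).ncard := by
  refine Set.ncard_le_ncard_of_injOn (fun v => v ᵥ* (B : M12)) (fun v hv => ?_) (fun v _ w _ h => ?_)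
  · have h1 : v ᵥ* ((B * A * B⁻¹ : GL12) : M12) = -v := hv
    show (v ᵥ* (B : M12)) ᵥ* (A : M12) = -(v ᵥ* (B : M12))
    rw [← neg_vecMul, ← h1, vecMul_vecMul, vecMul_vecMul, ← Units.val_mul, ← Units.val_mul, inv_mul_cancel_right]
  · have h1 : v ᵥ* (B : M12) = w ᵥ* (B : M12) := h
    rw [← vecMul_cancel_inv B v, h1, vecMul_cancel_inv]

theorem Ng_cert {A P : M12} {Q : List ℕ} (h : A * P + P + toM Q = 1) {f : ℕ}
    (hf : Fintype.card {i : I12 // Q.getD (ix i) 0 ≠ 0} = f) : (Ng A).ncard ≤ 3 ^ f := by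
  have h0 : Nat.card ({i : I12 // Q.getD (ix i) 0 ≠ 0} → ZMod 3) = 3 ^ f := by
    rw [Nat.card_eq_fintype_card, Fintype.card_fun, ZMod.card, hf]
  rw [← h0, ← Nat.card_coe_set_eq]
  have h1 : ∀ v ∈ Ng A, v = v ᵥ* toM Q := fun v hv => by
    have h2 : v ᵥ* A = -v := hv
    conv_lhs => rw [← vecMul_one v, ← h]
    rw [vecMul_add, vecMul_add, ← vecMul_vecMul, h2, neg_vecMul, neg_add_cancel, zero_add]
  refine Nat.card_le_card_of_injective (fun v i => v.1 i.1) fun v w e => Subtype.ext ?_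
  rw [h1 v v.2, h1 w w.2]
  funext j
  unfold vecMul dotProduct
  refine Finset.sum_congr rfl fun i _ => ?_
  by_cases hi : Q.getD (ix i) 0 = 0
  · have h2 : toM Q i j = 0 := by
      unfold toM
      rw [hi]
      simp [dg]
    simp only [h2, mul_zero]
  · have h2 : v.1 i = w.1 i := congrFun e ⟨i, hi⟩
    simp only [h2]

/-- the tables of the two certificates -/
def cT : List (List ℕ) := [aR,
  [0x20202000102020000000000, 0x102000001020000000000, 0x2000000000000020000, 0x1010001010000000000,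
   0x20102000101010000000000, 0x2000000020000000000, 0x20101000202000000000000, 0x0, 0x20000000000000000, 0x0, 0x0, 0x0],
  [0x202000002020000000001, 0x100000201020000000100, 0x0, 0x10002010101010001000000, 0x1000001010100000000,
   0x0, 0x0, 0x0, 0x0, 0x0, 0x0, 0x0],
  [0x102000200000000000000, 0x20201000200000000000000, 0x0, 0x20101000200000000000000, 0x10202000000000000000000,
   0x0, 0x0, 0x0, 0x0, 0x0, 0x0, 0x0],
  [0x10000000200000000000001, 0x1000200000000000100, 0x1000000000000010000, 0x10001000100000001000000,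
   0x10202000200000100000000, 0x1000000010000000000, 0x10202000101000000000000, 0x0, 0x10000000000000000, 0x0, 0x0, 0x0]]

theorem good_cT : ∀ i, good (tab cT i) = true := good_tab (by decide +kernel)

theorem Ng_a : (Ng ((G 0 : GL12) : M12)).ncard ≤ 81 := by
  have e2 : ((2 : ℕ) : ZMod 3) = -1 := by decide
  have h2 := zsum_spec good_cT (l := [(1, [0] ++ [1]), (1, [1]), (1, [2]), (2, [])]) (by decide +kernel)
  simp only [List.map_cons, List.map_nil, List.sum_cons, List.sum_nil, Nat.cast_one, one_smul, wm_append, wm_one,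
    wm_nil, e2, neg_one_smul, add_zero] at h2
  refine Ng_cert (P := toM (tab cT 1)) (Q := tab cT 2) (f := 4) ?_ (by decide +kernel)
  rw [← sub_eq_zero, ← h2]
  show toM (tab cT 0) * _ + _ + _ - _ = _
  abel

theorem Ng_a' : (Ng ((-G 0 : GL12) : M12)).ncard ≤ 6561 := by
  have e2 : ((2 : ℕ) : ZMod 3) = -1 := by decide
  have h2 := zsum_spec good_cT (l := [(1, [0] ++ [3]), (2, [3]), (1, [4]), (2, [])]) (by decide +kernel)
  simp only [List.map_cons, List.map_nil, List.sum_cons, List.sum_nil, Nat.cast_one, one_smul, wm_append, wm_one,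
    wm_nil, e2, neg_one_smul, add_zero] at h2
  refine Ng_cert (P := -toM (tab cT 3)) (Q := tab cT 4) (f := 8) ?_ (by decide +kernel)
  rw [← sub_eq_zero, ← h2, Units.val_neg, neg_mul_neg]
  show toM (tab cT 0) * _ + _ + _ - _ = _
  abel

theorem G4_sq : G 4 * G 4 = -1 := by
  have h := word_neg (w := [4, 4]) (w' := []) (by decide +kernel)
  simpa using h

theorem φ_z0 : φ z0 = (QuotientGroup.mk (G 0) : QQ) := by
  have h : z0 = PresentedGroup.of Spor.Suz.Gen.a := mul_one _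
  rw [h]
  exact φ_of _

theorem φ_e0 : φ e0 = (QuotientGroup.mk (G 4) : QQ) := by
  have h : e0 = PresentedGroup.of Spor.Suz.Gen.e := mul_one _
  rw [h]
  exact φ_of _

/-! ### the model -/

variable {D : Type*} [Group D] [Finite D]

omit [Finite D] in
theorem exists_pr (m : TAB.C3B.Mod D) : ∃ π : D →* Suz, Function.Surjective π ∧
    ∀ d, φ (π d) = (QuotientGroup.mk (m.R d) : QQ) := by
  choose p hp using fun d => mem_W.1 (m.R_mem d)
  refine ⟨MonoidHom.mk' p fun a b => φ_injective (by rw [map_mul, hp, hp, hp, map_mul, QuotientGroup.mk_mul]),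
    fun s => ?_, hp⟩
  obtain ⟨A, hA⟩ := QuotientGroup.mk_surjective (φ s)
  obtain ⟨k, -, hk⟩ := m.R_surj A (mem_W.2 ⟨s, hA.symm⟩)
  exact ⟨k, φ_injective (by rw [← hA, ← hk]; exact hp k)⟩

theorem fib_R (m : TAB.C3B.Mod D) (A : GL12) : {t : D | t ^ 2 = 1 ∧ m.R t = A}.ncard ≤ (Ng (A : M12)).ncard := by
  rcases Set.eq_empty_or_nonempty {t : D | t ^ 2 = 1 ∧ m.R t = A} with h | ⟨t, ht, rfl⟩
  · rw [h, Set.ncard_empty]
    exact Nat.zero_le _
  obtain ⟨k, hk, hR, hk2⟩ := m.exists_lift (m.R_mem t) (n := 2) (by decide) (by rw [← map_pow, ht, map_one])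
  refine le_trans (Set.ncard_le_ncard (t := (fun v => m.el k v 0) '' Ng (m.R t : M12)) ?_) (Set.ncard_image_le)
  rintro g ⟨hg, h⟩
  obtain ⟨v, c, rfl⟩ := TAB.C3B.Mod.exists_el hk (h.trans hR.symm)
  rw [TAB.C3B.Mod.el_pow hk, hk2] at hg
  obtain ⟨h1, h2⟩ := TAB.C3B.Mod.el_inj m.K_one (hg.trans (TAB.C3B.Mod.el_zero_zero (m := m) 1).symm)
  simp only [ps, pq, zero_vecMul, zero_add, fm_zero_left] at h1 h2
  have h3 : v ᵥ* (m.R k : M12) = -v := eq_neg_of_add_eq_zero_left h1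
  rw [h3, fm_neg_left, fm_self, neg_zero, zero_add, Nat.cast_ofNat, two_mul] at h2
  rw [z3_two c h2]
  exact ⟨v, by rw [← hR]; exact h3, rfl⟩

theorem fib_pr (m : TAB.C3B.Mod D) {π : D →* Suz} (hπ : ∀ d, φ (π d) = (QuotientGroup.mk (m.R d) : QQ)) {s : Suz} {A : GL12}
    (h : φ s = QuotientGroup.mk A) :
    {t : D | t ^ 2 = 1 ∧ π t = s}.ncard ≤ (Ng (A : M12)).ncard + (Ng ((-A : GL12) : M12)).ncard := by
  refine le_trans (Set.ncard_le_ncard (t := {t : D | t ^ 2 = 1 ∧ m.R t = A} ∪ {t : D | t ^ 2 = 1 ∧ m.R t = -A}) ?_)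
    ((Set.ncard_union_le _ _).trans (Nat.add_le_add (fib_R m _) (fib_R m _)))
  rintro t ⟨ht, rfl⟩
  rw [hπ] at h
  exact (mk_eq_iff.1 h).imp (fun e => ⟨ht, e⟩) fun e => ⟨ht, e⟩

theorem φ_conj (g : Suz) {s : Suz} {A : GL12} (h : φ s = QuotientGroup.mk A) :
    ∃ B : GL12, φ (g * s * g⁻¹) = QuotientGroup.mk (B * A * B⁻¹) := by
  obtain ⟨B, hB⟩ := QuotientGroup.mk_surjective (φ g)
  exact ⟨B, by rw [map_mul, map_mul, map_inv, h, ← hB, QuotientGroup.mk_mul, QuotientGroup.mk_mul, QuotientGroup.mk_inv]⟩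

/-- **The involutions.** -/
theorem n2 (m : TAB.C3B.Mod D) : {t : D | t ^ 2 = 1}.ncard ≤ 10 ^ 9 := by
  have := H775.EPS.finite_suz_iso (B := Suz) ⟨MulEquiv.refl _⟩
  obtain ⟨π, -, hπ⟩ := exists_pr m
  have h1 : {t : D | t ^ 2 = 1} ⊆ {t : D | t ^ 2 = 1 ∧ π t = 1} ∪
      {t : D | t ^ 2 = 1 ∧ ∃ g, π t = g * z0 * g⁻¹} := by
    intro t ht
    have ht' : t ^ 2 = 1 := ht
    by_cases h0 : π t = 1
    · exact Or.inl ⟨ht, h0⟩
    right
    rcases CpAutSuz.Classes.exists_conj_inv (orderOf_eq_prime (by rw [← map_pow, ht', map_one]) h0) with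
      ⟨g, hg⟩ | ⟨g, hg⟩
    · exact ⟨ht, g, hg.symm⟩
    exfalso
    obtain ⟨B, hB⟩ := φ_conj g φ_e0
    rw [hg, hπ] at hB
    have h2 : m.R t * m.R t = B * (G 4 * G 4) * B⁻¹ := by
      rcases mk_eq_iff.1 hB with e | e
      · rw [e]; group
      · rw [e, neg_mul_neg]; group
    rw [← map_mul, ← pow_two, ht', map_one, G4_sq, mul_neg, neg_mul, mul_one, mul_inv_cancel] at h2
    exact m1_ne h2.symm
  have h2 := fib_pr m hπ (s := 1) (A := 1) (by rw [map_one]; rfl)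
  have h3 := Ng_le ((1 : GL12) : M12)
  have h4 := Ng_le ((-1 : GL12) : M12)
  have h5 : {t : D | t ^ 2 = 1 ∧ ∃ g, π t = g * z0 * g⁻¹}.ncard ≤
      6642 * {s : Suz | ∃ g, s = g * z0 * g⁻¹}.ncard := by
    refine ncard_le_fib (Set.toFinite _) π (fun t ht => ht.2) ?_
    rintro _ ⟨g, rfl⟩
    obtain ⟨B, hB⟩ := φ_conj g φ_z0
    have h6 := fib_pr m hπ hB
    have h7 := (Ng_conj (G 0) B).trans Ng_a
    have h8 := (Ng_conj (-G 0) B).trans Ng_a'
    rw [mul_neg, neg_mul] at h8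
    refine le_trans (Set.ncard_le_ncard (t := {t : D | t ^ 2 = 1 ∧ π t = g * z0 * g⁻¹}) fun t ht => ⟨ht.1.1, ht.2⟩) ?_
    omega
  have h6 := H775.EPS.ncard_class_le z0
  have h7 := (centralizer ({z0} : Set Suz)).card_mul_index
  rw [KFacts.SuzCent.card_C1, SporadicRecognition.SuzOrder.card_Suz] at h7
  have h8 := (Set.ncard_le_ncard h1).trans (Set.ncard_union_le _ _)
  omega

omit [Finite D] in
theorem ker_el (m : TAB.C3B.Mod D) {n : D} (h : m.R n = 1) : ∃ v c, n = m.el 1 v c :=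
  TAB.C3B.Mod.exists_el m.K_one (by rw [h, map_one])

omit [Finite D] in
theorem el_one_mul (m : TAB.C3B.Mod D) (v w : V12) (c d : ZMod 3) :
    m.el 1 v c * m.el 1 w d = m.el 1 (v + w) (fm v w + (c + d)) := by
  rw [TAB.C3B.Mod.el_mul m.K_one, map_one, Units.val_one, vecMul_one, mul_one]

omit [Finite D] in
theorem el_swap (m : TAB.C3B.Mod D) (v w : V12) (c d : ZMod 3) :
    m.el 1 v c * m.el 1 w d = m.el 1 w d * m.el 1 v c * m.X (fm v w + fm v w) := by
  rw [el_one_mul, el_one_mul, TAB.C3B.Mod.el, TAB.C3B.Mod.el, mul_assoc (1 * m.β (w + v)), ← m.X_add, add_comm w v,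
    fm_swap v w]
  congr 2
  ring

omit [Finite D] in
theorem X_mem (m : TAB.C3B.Mod D) (a : ZMod 3) : m.X a ∈ zpowers (m.X 1) := by
  refine mem_zpowers_iff.2 ⟨(a.val : ℤ), ?_⟩
  rw [zpow_natCast, m.X_pow, mul_one, ZMod.natCast_zmod_val]

omit [Finite D] in
theorem ord_X (m : TAB.C3B.Mod D) : orderOf (m.X 1) = 3 := by
  refine orderOf_eq_prime ?_ fun h => absurd (m.X_inj 1 h) (by decide)
  rw [m.X_pow, show ((3 : ℕ) : ZMod 3) * 1 = 0 by decide, m.X_zero]

theorem card_ker (m : TAB.C3B.Mod D) : Nat.card m.R.ker ≤ 3 ^ 13 := by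
  have h : Nat.card (V12 × ZMod 3) = 3 ^ 13 := by
    rw [Nat.card_prod, card_rows, Nat.card_zmod]
    norm_num
  rw [← h]
  refine Nat.card_le_card_of_surjective (fun p => ⟨m.el 1 p.1 p.2, by
      rw [MonoidHom.mem_ker, TAB.C3B.Mod.R_el, map_one]⟩) fun g => ?_
  obtain ⟨v, c, h⟩ := ker_el m g.2
  exact ⟨(v, c), Subtype.ext h.symm⟩

theorem ab_le (m : TAB.C3B.Mod D) {A : Subgroup D} (hA : A ≤ m.R.ker) (hab : ∀ a ∈ A, ∀ b ∈ A, a * b = b * a) :
    Nat.card A ≤ 3 ^ 7 := by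
  have hZ : Nat.card (zpowers (m.X 1)) = 3 := by rw [Nat.card_zpowers, ord_X]
  have h1 := DS.Sp.F24.card_sq_le Nat.prime_three hZ (Q := m.R.ker) (fun a ha b hb => by
    obtain ⟨v, c, rfl⟩ := ker_el m ha
    obtain ⟨w, d, rfl⟩ := ker_el m hb
    rw [el_swap, m.X_cen, mul_assoc (m.X _), mul_assoc (m.X _), mul_inv_cancel_right, mul_inv_cancel, mul_one]
    exact X_mem m _) (by
    rintro n - _ ⟨k, rfl⟩
    exact ((m.X_comm 1 n).zpow_right k).eq) hA hab
  have h2 : Nat.card (A ⊓ centralizer (m.R.ker : Set D) : Subgroup D) ≤ 3 := by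
    refine le_trans (card_le_of_le fun s hs => ?_) hZ.le
    obtain ⟨v, c, rfl⟩ := ker_el m (hA hs.1)
    have h3 : v = 0 := eq_zero_of_fm fun w => by
      have h4 := hs.2 (m.el 1 w 0) (by rw [SetLike.mem_coe, MonoidHom.mem_ker, TAB.C3B.Mod.R_el, map_one])
      rw [el_swap m v w, left_eq_mul] at h4
      exact z3_two _ (m.X_inj _ h4)
    rw [h3, TAB.C3B.Mod.el_zero, one_mul]
    exact X_mem m _
  have h3 : Nat.card A * Nat.card A ≤ 3 ^ 7 * 3 ^ 7 :=
    h1.trans ((Nat.mul_le_mul (card_ker m) h2).trans (by norm_num))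
  exact Nat.mul_self_le_mul_self_iff.1 h3

omit [Finite D] in
theorem map_X (m : TAB.C3B.Mod D) {α : D →* D} (hα : α (m.X 1) = (m.X 1)⁻¹) (a : ZMod 3) : α (m.X a) = (m.X a)⁻¹ := by
  obtain ⟨k, hk⟩ := mem_zpowers_iff.1 (X_mem m a)
  rw [← hk, map_zpow, hα, _root_.inv_zpow]

/-- the elements of `N` inverted by an endomorphism inverting the centre -/
theorem inv_ker (m : TAB.C3B.Mod D) {α : D →* D} (hα : α (m.X 1) = (m.X 1)⁻¹) :
    {n : D | m.R n = 1 ∧ α n = n⁻¹}.ncard ≤ 3 ^ 7 := by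
  set I := {n : D | m.R n = 1 ∧ α n = n⁻¹} with hI
  have h1 : ∀ a ∈ I, ∀ b ∈ I, a * b = b * a := by
    rintro a ⟨ha, ha'⟩ b ⟨hb, hb'⟩
    obtain ⟨v, c, rfl⟩ := ker_el m ha
    obtain ⟨w, d, rfl⟩ := ker_el m hb
    have h2 := el_swap m v w c d
    have h3 := congrArg α h2
    rw [map_mul, map_mul, map_mul, ha', hb', map_X m hα, ← _root_.mul_inv_rev, ← _root_.mul_inv_rev,
      ← _root_.mul_inv_rev, _root_.inv_inj, h2, ← m.X_cen, mul_assoc, ← m.X_add, left_eq_mul] at h3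
    rw [h2, z3_two _ (m.X_inj _ h3), m.X_zero, mul_one]
  refine le_trans ?_ (ab_le m (A := closure I) ((closure_le _).2 fun n hn => hn.1) fun a ha b hb => ?_)
  · exact Set.ncard_le_ncard (t := (closure I : Set D)) subset_closure
  · have h2 : closure I ≤ centralizer I := (closure_le _).2 fun a ha b hb => h1 b hb a ha
    have h3 : closure I ≤ centralizer (closure I : Set D) := (closure_le _).2 fun a ha b hb => (h2 hb a ha).symm
    exact h3 hb a ha

omit [Finite D] in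
theorem ker_six (m : TAB.C3B.Mod D) {π : D →* Suz} (hπ : ∀ d, φ (π d) = (QuotientGroup.mk (m.R d) : QQ)) {k : D}
    (hk : π k = 1) : k ^ 6 = 1 := by
  have h1 := hπ k
  rw [hk, map_one] at h1
  have h2 : m.R (k ^ 2) = 1 := by
    rcases mk_eq_one.1 h1.symm with e | e <;> rw [map_pow, e] <;> simp
  obtain ⟨v, c, h3⟩ := ker_el m h2
  rw [show 6 = 2 * 3 from rfl, pow_mul, h3, show 3 = 2 + 1 from rfl, pow_succ, pow_two, el_one_mul, el_one_mul,
    fm_add_left, fm_self, add_zero, zero_add, zero_add, z3_three, show v + v + v = 0 from funext fun i => z3_three _,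
    TAB.C3B.Mod.el_zero_zero]

omit [Finite D] in
theorem map_ker (m : TAB.C3B.Mod D) {π : D →* Suz} (hs : Function.Surjective π)
    (hπ : ∀ d, φ (π d) = (QuotientGroup.mk (m.R d) : QQ)) {α : D →* D} (hα : Function.Surjective α) {k : D}
    (hk : π k = 1) : π (α k) = 1 := by
  have := H775.EPS.finite_suz_iso (B := Suz) ⟨MulEquiv.refl _⟩
  have : IsSimpleGroup Suz := Cfsg.Agent.S1694.result.1
  have hn : (π.ker.map (π.comp α)).Normal := Normal.map inferInstance _ (hs.comp hα)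
  rcases hn.eq_bot_or_eq_top with h | h
  · have h1 : π (α k) ∈ π.ker.map (π.comp α) := ⟨k, hk, rfl⟩
    rwa [h, mem_bot] at h1
  exfalso
  have : Fact (Nat.Prime 5) := ⟨Nat.prime_five⟩
  obtain ⟨s, h5⟩ := exists_prime_orderOf_dvd_card' (G := Suz) 5 (by
    rw [SporadicRecognition.SuzOrder.card_Suz]; norm_num)
  obtain ⟨l, hl, rfl⟩ : s ∈ π.ker.map (π.comp α) := by rw [h]; trivial
  have h6 := orderOf_dvd_of_pow_eq_one (x := (π.comp α) l) (n := 6) (by rw [← map_pow, ker_six m hπ hl, map_one])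
  rw [h5] at h6
  norm_num at h6

/-- **The inverted elements.** -/
theorem ni (m : TAB.C3B.Mod D) {α : D →* D} (hs : Function.Surjective α) (hα : α (m.X 1) = (m.X 1)⁻¹) :
    {d : D | α d = d⁻¹}.ncard ≤ 4 * 10 ^ 10 := by
  have := H775.EPS.finite_suz_iso (B := Suz) ⟨MulEquiv.refl _⟩
  obtain ⟨π, hπs, hπ⟩ := exists_pr m
  set S := {d : D | α d = d⁻¹} with hS
  have h1 : ∀ A : GL12, {d | d ∈ S ∧ m.R d = A}.ncard ≤ 3 ^ 7 := fun A => by
    rcases Set.eq_empty_or_nonempty {d | d ∈ S ∧ m.R d = A} with h | ⟨e, he, rfl⟩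
    · rw [h, Set.ncard_empty]
      exact Nat.zero_le _
    have he' : α e = e⁻¹ := he
    refine le_trans (Set.ncard_le_ncard_of_injOn (fun d => d * e⁻¹) ?_ fun a _ b _ h => mul_right_cancel h)
      (inv_ker m (α := (MulAut.conj e).toMonoidHom.comp α) ?_)
    · rintro d ⟨hd, h⟩
      have hd' : α d = d⁻¹ := hd
      refine ⟨by rw [map_mul, map_inv, h, mul_inv_cancel], ?_⟩
      show e * α (d * e⁻¹) * e⁻¹ = (d * e⁻¹)⁻¹
      rw [map_mul, map_inv, hd', he']
      group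
    · show e * α (m.X 1) * e⁻¹ = _
      rw [hα, ← m.X_neg, m.X_cen, mul_inv_cancel_right]
  have h2 : S.ncard ≤ 4374 * (π '' S).ncard := by
    refine ncard_le_fib (Set.toFinite _) π (fun d hd => Set.mem_image_of_mem π hd) ?_
    rintro _ ⟨e, -, rfl⟩
    have h3 := h1 (m.R e)
    have h4 := h1 (-m.R e)
    have h5 : {d | d ∈ S ∧ π d = π e} ⊆ {d | d ∈ S ∧ m.R d = m.R e} ∪ {d | d ∈ S ∧ m.R d = -m.R e} := by
      rintro d ⟨hd, h⟩
      have h6 := congrArg φ h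
      rw [hπ, hπ] at h6
      exact (mk_eq_iff.1 h6).imp (fun e => ⟨hd, e⟩) fun e => ⟨hd, e⟩
    have h6 := (Set.ncard_le_ncard h5).trans (Set.ncard_union_le _ _)
    omega
  have h3 : (π '' S).ncard * (π '' S).ncard ≤ 5760000 * 5760000 := by
    refine (sq_le ?_).trans ?_
    · rintro _ ⟨a, ha, rfl⟩ _ ⟨b, hb, rfl⟩ _ ⟨c, hc, rfl⟩ _ ⟨d, hd, rfl⟩ h
      have ha' : α a = a⁻¹ := ha
      have hb' : α b = b⁻¹ := hb
      have hc' : α c = c⁻¹ := hc
      have hd' : α d = d⁻¹ := hd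
      have h4 := map_ker m hπs hπ hs (k := a * b⁻¹ * (c * d⁻¹)⁻¹) (by
        rw [map_mul, map_inv, map_mul, map_mul, map_inv, map_inv, h, mul_inv_cancel])
      simp only [map_mul, map_inv, ha', hb', hc', hd', inv_inv] at h4
      rw [mul_inv_eq_one] at h4
      calc (π b)⁻¹ * π a = ((π a)⁻¹ * π b)⁻¹ := by group
        _ = _ := by rw [h4]; group
    · rw [SporadicRecognition.SuzOrder.card_Suz]
      exact (Nat.mul_le_mul_right _ H759.S8.SuzK.k_suz).trans (by norm_num)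
  have h4 := Nat.mul_self_le_mul_self_iff.1 h3
  omega

end Cfsg.Agent.SP.Mon.D2
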