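import Cfsg.Agent.SP.Mon.L3.Iface
import Cfsg.Agent.SP.Mon.D2.Mod
import Cfsg.Agent.TAB.C3B.Ident

/-!
# S5755, the Monster: the boxes `N2` and `NI` (helper71)
-/

set_option autoImplicit false

namespace Cfsg.Agent.SP.Mon.D2

open Subgroup Cfsg
open Cfsg.Agent.BpSpor.MBigModel (MG zz)

/-- the model of the centralizer of an element of class `3B` -/
theorem exists_mod {x : MG} (h : T3B x) : ∃ (y c : MG) (m : TAB.C3B.Mod ↥(centralizer ({y} : Set MG))),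
    c * y * c⁻¹ = x ∧ ((m.X 1 : MG) = y ∨ (m.X 1 : MG) = y⁻¹) := by
  obtain ⟨y, h1, h2, c, hc⟩ := h
  obtain ⟨m, -, hm⟩ := TAB.C3B.exists_mod h1 h2
  exact ⟨y, c, m, hc, hm⟩

/-- **Box `N2`.** -/
theorem boxN2 : BoxN2 := by
  intro x hx
  have := BpSpor.MBigModel.finite
  obtain ⟨y, c, m, rfl, -⟩ := exists_mod hx
  refine le_trans (Set.ncard_le_ncard (t := (fun d : centralizer ({y} : Set MG) => c * d * c⁻¹) '' {t | t ^ 2 = 1}) ?_)
    (le_trans Set.ncard_image_le (n2 m))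
  rintro t ⟨h1, h2⟩
  refine ⟨⟨c⁻¹ * t * c, mem_centralizer_singleton_iff.2 ?_⟩, Subtype.ext ?_, by
    show c * (c⁻¹ * t * c) * c⁻¹ = t
    group⟩
  · calc c⁻¹ * t * c * y = c⁻¹ * (t * (c * y * c⁻¹)) * c := by group
      _ = _ := by rw [h2]; group
  · show (c⁻¹ * t * c) ^ 2 = 1
    calc (c⁻¹ * t * c) ^ 2 = c⁻¹ * t ^ 2 * c := by rw [pow_two, pow_two]; group
      _ = 1 := by rw [← h1, pow_orderOf_eq_one]; group

theorem inv_comm {G : Type*} [Group G] {u y : G} (h : u * y = y⁻¹ * u) : u * y⁻¹ = y * u := by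
  calc u * y⁻¹ = y * (y⁻¹ * u) * y⁻¹ := by group
    _ = _ := by rw [← h]; group

/-- conjugation by an inverting element -/
def cj {G : Type*} [Group G] {u y : G} (h : u * y = y⁻¹ * u) :
    centralizer ({y} : Set G) →* centralizer ({y} : Set G) where
  toFun d := ⟨u * d * u⁻¹, mem_centralizer_singleton_iff.2 (by
    have h1 : Commute (d : G) y := mem_centralizer_singleton_iff.1 d.2
    have h2 : u * y⁻¹ * u⁻¹ = y := by rw [inv_comm h, mul_inv_cancel_right]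
    calc u * d * u⁻¹ * y = u * d * u⁻¹ * (u * y⁻¹ * u⁻¹) := by rw [h2]
      _ = u * (d * y⁻¹) * u⁻¹ := by group
      _ = u * y⁻¹ * u⁻¹ * (u * d * u⁻¹) := by rw [h1.inv_right.eq]; group
      _ = _ := by rw [h2])⟩
  map_one' := Subtype.ext (by simp)
  map_mul' a b := Subtype.ext (by
    show u * (a * b) * u⁻¹ = u * a * u⁻¹ * (u * b * u⁻¹)
    group)

/-- **Box `NI`.** -/
theorem boxNI : BoxNI := by
  intro x hx
  have := BpSpor.MBigModel.finite
  obtain ⟨y, c, m, rfl, hm⟩ := exists_mod hx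
  rcases Set.eq_empty_or_nonempty {t : MG | orderOf t = 2 ∧ t * (c * y * c⁻¹) = (c * y * c⁻¹)⁻¹ * t} with h | ⟨u, hu⟩
  · rw [h, Set.ncard_empty]
    exact Nat.zero_le _
  have key : ∀ t : MG, orderOf t = 2 ∧ t * (c * y * c⁻¹) = (c * y * c⁻¹)⁻¹ * t →
      (c⁻¹ * t * c) * (c⁻¹ * t * c) = 1 ∧ (c⁻¹ * t * c) * y = y⁻¹ * (c⁻¹ * t * c) := by
    rintro t ⟨h1, h2⟩
    constructor
    · calc _ = c⁻¹ * t ^ 2 * c := by rw [pow_two]; group
        _ = 1 := by rw [← h1, pow_orderOf_eq_one]; group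
    · calc c⁻¹ * t * c * y = c⁻¹ * (t * (c * y * c⁻¹)) * c := by group
        _ = _ := by rw [h2]; group
  obtain ⟨h1, h2⟩ := key u hu
  generalize c⁻¹ * u * c = v at h1 h2
  have h3 : v⁻¹ = v := inv_eq_of_mul_eq_one_left h1
  have h4 := ni m (α := cj h2) (fun d => ⟨cj h2 d, Subtype.ext (by
    show v * (v * d * v⁻¹) * v⁻¹ = d
    rw [h3, ← mul_assoc, ← mul_assoc, h1, one_mul, mul_assoc, h1, mul_one])⟩) (Subtype.ext (by
    show v * (m.X 1 : MG) * v⁻¹ = (m.X 1 : MG)⁻¹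
    rcases hm with e | e
    · rw [e, h2, mul_inv_cancel_right]
    · rw [e, inv_comm h2, mul_inv_cancel_right, inv_inv]))
  refine le_trans (Set.ncard_le_ncard
    (t := (fun d : centralizer ({y} : Set MG) => c * (d * v) * c⁻¹) '' {d | cj h2 d = d⁻¹}) ?_)
    (le_trans Set.ncard_image_le h4)
  intro t ht
  obtain ⟨h5, h6⟩ := key t ht
  obtain ⟨w, hw⟩ : ∃ w, w = c⁻¹ * t * c := ⟨_, rfl⟩
  rw [← hw] at h5 h6
  refine ⟨⟨w * v, mem_centralizer_singleton_iff.2 ?_⟩, Subtype.ext ?_, ?_⟩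
  · rw [mul_assoc, h2, ← mul_assoc, inv_comm h6, mul_assoc]
  · show v * (w * v) * v⁻¹ = (w * v)⁻¹
    rw [mul_inv_rev, inv_eq_of_mul_eq_one_left h5, ← mul_assoc, mul_inv_cancel_right, h3]
  · show c * (w * v * v) * c⁻¹ = t
    rw [mul_assoc w, h1, hw]
    group

end Cfsg.Agent.SP.Mon.D2
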